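import Mathlib.GroupTheory.Perm.ViaEmbedding
import Mathlib.GroupTheory.SpecificGroups.Alternating
import Mathlib.GroupTheory.Perm.Cycle.Type
import Mathlib.Data.ZMod.Basic
import Cfsg.Agent.S2119
import Cfsg.Agent.H282.SK.Tools
import Cfsg.Agent.FastGrp
import Cfsg.Agent.Prune
set_option linter.all false

section
prune_inst 0x7fbeffffedfaafdfffff7e7ffefddffffbfdfffffffffffbffe9ffffefdf6b77fbe5fb8fffef78ffdef7e2be70f87bd3fbffffffef6ffc7ffffdfff45ffbffdfedffbf8971df9cbe1ffc6ffffbf17fbfffffffffffffffffffffffffffffffffffffffffffff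

-- part: H277/SK/AltPerm
section
prune_inst 0x5000000000180000000000000000000000000000000000000108000000400000080000000080004048000000000000000000000000000000000001200000000000000000000000000000000000000000000000000000000000000000000000000
set_option linter.all false
open scoped Cfsg.Agent.FastGrp

/-!
# Sidki pairs in symmetric and alternating groups (helper277)

`ElemT V` : the elementary consequence of the Sidki condition in a minimal counterexample of S3010: for `1 ≠ v ∈ V` and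
`x ≠ 1` of odd order inverted by `v` some `1 ≠ w ∈ V` centralises `x` and inverts no element `≠ 1` of odd order of
`C_G(⟨v, x⟩)`.

* `not_elemT` : no elementary abelian 2-subgroup `V ≠ 1` of a group `G` between `A_n` and `S_n`, `n ≥ 5`, has this property.
-/

set_option autoImplicit false

namespace Cfsg.Agent.H277.SK

open Equiv Equiv.Perm

/-- the elementary form of the tool (T1) -/
def ElemT {G : Type*} [Group G] (V : Subgroup G) : Prop :=
  ∀ v ∈ V, v ≠ 1 → ∀ x : G, x ≠ 1 → Odd (orderOf x) → v * x * v⁻¹ = x⁻¹ →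
    ∃ w ∈ V, w ≠ 1 ∧ w * x = x * w ∧ ∀ y : G, Odd (orderOf y) → y * v = v * y → y * x = x * y →
      w * y * w⁻¹ = y⁻¹ → y = 1

section model

variable {n : ℕ}

theorem cycleType_invol (g : Perm (Fin n)) (hg : g * g = 1) :
    g.cycleType = Multiset.replicate (g.support.card / 2) 2 := by
  have h1 : ∀ k ∈ g.cycleType, k = 2 := by
    intro k hk
    have h2 := Equiv.Perm.two_le_of_mem_cycleType hk
    have h3 : k ∣ orderOf g := Equiv.Perm.dvd_of_mem_cycleType hk
    have h4 : orderOf g ∣ 2 := orderOf_dvd_of_pow_eq_one (by rw [pow_two]; exact hg)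
    exact le_antisymm (Nat.le_of_dvd (by norm_num) (h3.trans h4)) h2
  have h5 := Multiset.eq_replicate_of_mem h1
  have h6 := Equiv.Perm.sum_cycleType g
  rw [h5, Multiset.sum_replicate, smul_eq_mul] at h6
  rw [h5]
  congr 1
  omega

/-- the models of fixed point free and other involutions: an embedding `ι` of `A` in `Fin n` which carries the involution
`f` of `A` to the involution `v` -/
theorem exists_model {A : Type*} [Fintype A] [DecidableEq A] (f : Perm A) (hf : f * f = 1) (ι₀ : A ↪ Fin n)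
    (v : Perm (Fin n)) (hv : v * v = 1) (hs : v.support.card = f.support.card) :
    ∃ ι : A ↪ Fin n, ∀ a : A, v (ι a) = ι (f a) := by
  classical
  set g : Perm (Fin n) := viaEmbeddingHom ι₀ f with hg
  have hgg : g * g = 1 := by rw [hg, ← map_mul, hf, map_one]
  have hgs : g.support.card = f.support.card := by
    have h1 : g.support = f.support.map ι₀ := by
      ext y
      rw [Finset.mem_map, mem_support, hg, viaEmbeddingHom_apply]
      by_cases hy : y ∈ Set.range ι₀
      · obtain ⟨a, rfl⟩ := hy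
        rw [viaEmbedding_apply]
        constructor
        · intro h
          exact ⟨a, mem_support.2 fun h' => h (by rw [h']), rfl⟩
        · rintro ⟨b, hb, hb'⟩ h
          rw [ι₀.injective hb'] at hb
          exact mem_support.1 hb (ι₀.injective h)
      · rw [viaEmbedding_apply_of_notMem _ _ _ hy]
        constructor
        · intro h; exact absurd rfl h
        · rintro ⟨b, -, hb⟩
          exact absurd ⟨b, hb⟩ hy
    rw [h1, Finset.card_map]
  have hc : IsConj g v := by
    rw [isConj_iff_cycleType_eq, cycleType_invol g hgg, cycleType_invol v hv, hgs, hs]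
  obtain ⟨c, hc⟩ := isConj_iff.1 hc
  refine ⟨ι₀.trans c.toEmbedding, fun a => ?_⟩
  have h1 : g (ι₀ a) = ι₀ (f a) := by rw [hg, viaEmbeddingHom_apply, viaEmbedding_apply]
  simp only [Function.Embedding.trans_apply, Equiv.coe_toEmbedding]
  rw [← hc]
  rw [Perm.mul_apply, Perm.mul_apply, show c⁻¹ (c (ι₀ a)) = ι₀ a from c.symm_apply_apply _, h1]


theorem sign_of_odd {σ : Perm (Fin n)} (h : Odd (orderOf σ)) : Perm.sign σ = 1 := by
  rcases Int.units_eq_one_or (Perm.sign σ) with h1 | h1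
  · exact h1
  · have h2 : (Perm.sign σ) ^ orderOf σ = 1 := by rw [← map_pow, pow_orderOf_eq_one, map_one]
    rw [h1, h.neg_one_pow] at h2
    exact absurd h2 (by decide)

theorem via_odd {A : Type*} (ι : A ↪ Fin n) {t : Perm A} {m : ℕ} (hm : Odd m) (h : t ^ m = 1) :
    Odd (orderOf (viaEmbeddingHom ι t)) := by
  have h1 : orderOf (viaEmbeddingHom ι t) ∣ m := orderOf_dvd_of_pow_eq_one (by rw [← map_pow, h, map_one])
  exact Odd.of_dvd_nat hm h1

theorem via_app {A : Type*} (ι : A ↪ Fin n) (t : Perm A) (a : A) : viaEmbeddingHom ι t (ι a) = ι (t a) := by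
  rw [viaEmbeddingHom_apply, viaEmbedding_apply]

theorem via_out {A : Type*} (ι : A ↪ Fin n) (t : Perm A) {y : Fin n} (hy : y ∉ Set.range ι) :
    viaEmbeddingHom ι t y = y := by
  rw [viaEmbeddingHom_apply, viaEmbedding_apply_of_notMem _ _ _ hy]

/-- `v` is the image of `f` -/
theorem eq_via {A : Type*} [Fintype A] [DecidableEq A] {f : Perm A} {ι : A ↪ Fin n} {v : Perm (Fin n)}
    (hs : v.support.card = f.support.card) (h : ∀ a : A, v (ι a) = ι (f a)) : v = viaEmbeddingHom ι f := by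
  have h1 : f.support.map ι ⊆ v.support := by
    intro y hy
    obtain ⟨a, ha, rfl⟩ := Finset.mem_map.1 hy
    rw [mem_support, h a]
    intro h'
    exact mem_support.1 ha (ι.injective h')
  have h2 : f.support.map ι = v.support := Finset.eq_of_subset_of_card_le h1 (by rw [Finset.card_map, hs])
  ext y
  by_cases hy : y ∈ Set.range ι
  · obtain ⟨a, rfl⟩ := hy
    rw [via_app, h a]
  · rw [via_out ι f hy]
    have h3 : y ∉ v.support := by
      rw [← h2]
      intro h4
      obtain ⟨a, -, ha⟩ := Finset.mem_map.1 h4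
      exact hy ⟨a, ha⟩
    rw [notMem_support.1 h3]

end model

section main

variable {n : ℕ} {G : Type*} [Group G] {ψ : G →* Perm (Fin n)} (hψ : Function.Injective ψ)
  (hA : ∀ σ : Perm (Fin n), Perm.sign σ = 1 → ∃ g : G, ψ g = σ) {V : Subgroup G}
  (hc : ∀ a ∈ V, ∀ b ∈ V, a * b = b * a) (h2 : ∀ a ∈ V, a * a = 1) (hT : ElemT V)

include hψ hA hT in
/-- the tool for permutations -/
theorem tool {v : G} (hv : v ∈ V) (hv1 : v ≠ 1) {x : Perm (Fin n)} (hx1 : x ≠ 1) (hx : Odd (orderOf x))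
    (hinv : ψ v * x * (ψ v)⁻¹ = x⁻¹) :
    ∃ w ∈ V, w ≠ 1 ∧ ψ w * x = x * ψ w ∧ ∀ y : Perm (Fin n), Odd (orderOf y) → y * ψ v = ψ v * y → y * x = x * y →
      ψ w * y * (ψ w)⁻¹ = y⁻¹ → y = 1 := by
  obtain ⟨x, rfl⟩ := hA x (sign_of_odd hx)
  rw [orderOf_injective ψ hψ] at hx
  rw [← map_inv, ← map_mul, ← map_mul, ← map_inv] at hinv
  obtain ⟨w, hw, hw1, hwx, hwy⟩ := hT v hv hv1 x (fun h => hx1 (by rw [h, map_one])) hx (hψ hinv)
  refine ⟨w, hw, hw1, by rw [← map_mul, hwx, map_mul], fun y hy h3 h4 h5 => ?_⟩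
  obtain ⟨y, rfl⟩ := hA y (sign_of_odd hy)
  rw [orderOf_injective ψ hψ] at hy
  rw [← map_mul, ← map_mul] at h3 h4
  rw [← map_inv, ← map_mul, ← map_mul, ← map_inv] at h5
  rw [hwy y hy (hψ h3) (hψ h4) (hψ h5), map_one]

/-- negation on `ZMod m` -/
def ng (m : ℕ) : Perm (ZMod m) := Equiv.neg _

theorem ng_support {m : ℕ} [NeZero m] (hm : Odd m) : (ng m).support.card = m - 1 := by
  have h1 : (ng m).support = Finset.univ.erase 0 := by
    ext a
    rw [mem_support, Finset.mem_erase]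
    constructor
    · intro h
      exact ⟨fun h0 => h (by rw [h0]; simp [ng]), Finset.mem_univ _⟩
    · rintro ⟨h, -⟩ h'
      apply h
      have h2 : -a = a := h'
      have h3 : (2 : ZMod m) * a = 0 := by
        have : a + a = 0 := by nth_rewrite 1 [← h2]; exact neg_add_cancel a
        rw [two_mul]; exact this
      have h4 : IsUnit (2 : ZMod m) := by
        have := (ZMod.isUnit_iff_coprime 2 m).2 ((Nat.coprime_two_left).2 hm)
        exact_mod_cast this
      exact (h4.mul_right_eq_zero).1 h3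
  rw [h1, Finset.card_erase_of_mem (Finset.mem_univ _), Finset.card_univ, ZMod.card]

/-- the translations of `ZMod m` -/
def tr (m : ℕ) (b : ZMod m) : Perm (ZMod m) := Equiv.addRight b

theorem tr_apply {m : ℕ} (b a : ZMod m) : tr m b a = a + b := rfl

theorem tr_pow {m : ℕ} (b : ZMod m) (k : ℕ) : tr m b ^ k = tr m (k * b) := by
  induction k with
  | zero => ext a; simp [tr_apply]
  | succ k ih =>
    rw [pow_succ, ih]
    ext a
    rw [Perm.mul_apply, tr_apply, tr_apply, tr_apply]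
    push_cast
    ring

theorem tr_pow_self {m : ℕ} (b : ZMod m) : tr m b ^ m = 1 := by
  rw [tr_pow]
  ext a
  rw [tr_apply, ZMod.natCast_self, zero_mul, add_zero]; rfl

/-- the nonzero elements of an odd `ZMod` are not their own negatives -/
theorem dbl {m : ℕ} (hm : Odd m) {a : ZMod m} (h : a + a = 0) : a = 0 := by
  have h3 : (2 : ZMod m) * a = 0 := by rw [two_mul]; exact h
  have h4 : IsUnit (2 : ZMod m) := by
    have := (ZMod.isUnit_iff_coprime 2 m).2 ((Nat.coprime_two_left).2 hm)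
    exact_mod_cast this
  exact (h4.mul_right_eq_zero).1 h3

include hψ hA h2 hT in
/-- elements of maximal support have no fixed points -/
theorem no_fixed {v : G} (hv : v ∈ V) (hv1 : v ≠ 1)
    (hmax : ∀ u ∈ V, (ψ u).support.card ≤ (ψ v).support.card) (p : Fin n) : ψ v p ≠ p := by
  intro hp
  have hvv : ψ v * ψ v = 1 := by rw [← map_mul, h2 v hv, map_one]
  obtain ⟨c, hcc⟩ : ∃ c, (ψ v).support.card = c + c := by
    have h3 := cycleType_invol (ψ v) hvv
    have h4 := Equiv.Perm.sum_cycleType (ψ v)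
    rw [h3, Multiset.sum_replicate, smul_eq_mul] at h4
    exact ⟨(ψ v).support.card / 2, by omega⟩
  have hpos : (ψ v).support.card ≠ 0 := by
    rw [Ne, Finset.card_eq_zero, support_eq_empty_iff]
    intro h; exact hv1 (hψ (by rw [h, map_one]))
  obtain ⟨m, hm⟩ : ∃ m, m = 2 * c + 1 := ⟨_, rfl⟩
  have : NeZero m := ⟨by omega⟩
  have : Fact (1 < m) := ⟨by omega⟩
  have hodd : Odd m := ⟨c, hm⟩
  have hcard : m ≤ n := by
    have h3 : (insert p (ψ v).support).card ≤ n := by
      have := Finset.card_le_univ (insert p (ψ v).support)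
      rwa [Fintype.card_fin] at this
    rw [Finset.card_insert_of_notMem (fun h => mem_support.1 h hp)] at h3
    omega
  obtain ⟨ι₀⟩ : Nonempty (ZMod m ↪ Fin n) := by
    rw [Function.Embedding.nonempty_iff_card_le, ZMod.card, Fintype.card_fin]; exact hcard
  have hff : ng m * ng m = 1 := by
    ext a; simp [ng]
  have hsup : (ψ v).support.card = (ng m).support.card := by rw [ng_support hodd]; omega
  obtain ⟨ι, hι⟩ := exists_model (ng m) hff ι₀ (ψ v) hvv hsup
  have hvia := eq_via hsup hι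
  have hx1 : viaEmbeddingHom ι (tr m 1) ≠ 1 := by
    intro h
    have h3 := via_app ι (tr m 1) 0
    rw [h, tr_apply, zero_add, Perm.one_apply] at h3
    exact zero_ne_one (ι.injective h3)
  obtain ⟨w, hw, hw1, hwx, -⟩ := tool hψ hA hT hv hv1 hx1 (via_odd ι hodd (tr_pow_self 1)) (by
    rw [hvia, ← map_inv, ← map_mul, ← map_mul, ← map_inv]
    congr 1
    ext a
    rw [Perm.mul_apply, Perm.mul_apply, tr_apply]
    have h3 : (tr m 1)⁻¹ a = a - 1 := by
      rw [Perm.inv_eq_iff_eq, tr_apply]; ring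
    rw [h3]
    change -(-a + 1) = a - 1
    ring)
  have hww : ψ w * ψ w = 1 := by rw [← map_mul, h2 w hw, map_one]
  have happ : ∀ y, ψ w (viaEmbeddingHom ι (tr m 1) y) = viaEmbeddingHom ι (tr m 1) (ψ w y) := fun y => by
    rw [← Perm.mul_apply, hwx, Perm.mul_apply]
  obtain ⟨b, hb⟩ : ψ w (ι 0) ∈ Set.range ι := by
    by_contra hout
    have h3 := happ (ι 0)
    rw [via_out ι _ hout, via_app, tr_apply, zero_add] at h3
    exact zero_ne_one (ι.injective ((ψ w).injective h3.symm))
  have hk : ∀ k : ℕ, ψ w (ι (k : ZMod m)) = ι (b + k) := by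
    intro k
    induction k with
    | zero => rw [Nat.cast_zero, add_zero, hb]
    | succ k ih =>
      have h3 := happ (ι (k : ZMod m))
      rw [ih, via_app, via_app, tr_apply, tr_apply] at h3
      push_cast
      rw [h3, add_assoc]
  have hk' : ∀ a : ZMod m, ψ w (ι a) = ι (b + a) := by
    intro a
    rw [← ZMod.natCast_zmod_val a, hk]
  have hb0 : b = 0 := by
    have h3 : ψ w (ψ w (ι 0)) = ι 0 := by rw [← Perm.mul_apply, hww, Perm.one_apply]
    rw [hk', hk', add_zero] at h3
    exact dbl hodd (ι.injective h3)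
  have hfix : ∀ a : ZMod m, ψ w (ι a) = ι a := by intro a; rw [hk', hb0, zero_add]
  have hdisj : _root_.Equiv.Perm.Disjoint (ψ w) (ψ v) := by
    intro y
    by_cases hy : y ∈ Set.range ι
    · obtain ⟨a, rfl⟩ := hy
      exact Or.inl (hfix a)
    · right
      rw [hvia, via_out ι _ hy]
  have h5 := hmax (w * v) (V.mul_mem hw hv)
  rw [map_mul, hdisj.card_support_mul] at h5
  have h6 : (ψ w).support.card ≠ 0 := by
    rw [Ne, Finset.card_eq_zero, support_eq_empty_iff]
    intro h; exact hw1 (hψ (by rw [h, map_one]))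
  omega

/-- the 3-cycles -/
theorem cyc3 {a b c : Fin n} (hab : a ≠ b) (hac : a ≠ c) (hbc : b ≠ c) :
    (swap a b * swap a c) ^ 3 = 1 ∧ swap a b * swap a c ≠ 1 := by
  have h1 : IsThreeCycle (swap a b * swap a c) := isThreeCycle_swap_mul_swap_same hab hac hbc
  refine ⟨?_, fun h => ?_⟩
  · have := h1.orderOf
    rw [← this]; exact pow_orderOf_eq_one _
  · have := h1.orderOf
    rw [h, orderOf_one] at this
    exact absurd this (by decide)

theorem cyc3_odd {a b c : Fin n} (hab : a ≠ b) (hac : a ≠ c) (hbc : b ≠ c) :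
    Odd (orderOf (swap a b * swap a c)) := by
  rw [(isThreeCycle_swap_mul_swap_same hab hac hbc).orderOf]; decide

theorem comm_swap {w : Perm (Fin n)} {p q : Fin n} (h : w * swap p q = swap p q * w) (hpq : p ≠ q) :
    (w p = p ∧ w q = q) ∨ (w p = q ∧ w q = p) := by
  have h1 : swap (w p) (w q) = swap p q := by
    rw [swap_apply_apply, h, mul_inv_cancel_right]
  have h2 : swap (w p) (w q) (w p) = w q := swap_apply_left _ _
  rw [h1] at h2
  by_cases h3 : w p = p
  · rw [h3, swap_apply_left] at h2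
    exact Or.inl ⟨h3, h2.symm⟩
  · by_cases h4 : w p = q
    · rw [h4, swap_apply_right] at h2
      exact Or.inr ⟨h4, h2.symm⟩
    · rw [swap_apply_of_ne_of_ne h3 h4] at h2
      exact absurd (w.injective h2) hpq

include hψ hA hc h2 hT in
/-- `V` contains no transposition, if `n ≥ 4` is even -/
theorem no_transposition (hn : 4 ≤ n) (hne : Even n) {v : G} (hv : v ∈ V) {p q : Fin n} (hpq : p ≠ q)
    (hvs : ψ v = swap p q) : False := by
  obtain ⟨r, hr⟩ : ∃ r, r ∉ ({p, q} : Finset (Fin n)) := by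
    by_contra h
    push Not at h
    have h3 : (Finset.univ : Finset (Fin n)) ⊆ {p, q} := fun x _ => h x
    have h4 := Finset.card_le_card h3
    rw [Finset.card_univ, Fintype.card_fin] at h4
    have h5 := Finset.card_le_two (a := p) (b := q)
    omega
  rw [Finset.mem_insert, Finset.mem_singleton, not_or] at hr
  obtain ⟨hrp, hrq⟩ := hr
  have hv1 : v ≠ 1 := by
    rintro rfl
    rw [map_one] at hvs
    exact hpq (swap_eq_one_iff.1 hvs.symm)
  have hpr : p ≠ r := Ne.symm hrp
  have hqr : q ≠ r := Ne.symm hrq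
  obtain ⟨w, hw, hw1, hwx, hwy⟩ := tool hψ hA hT hv hv1 (cyc3 hpq hpr hqr).2 (cyc3_odd hpq hpr hqr) (by
    rw [hvs, swap_inv, mul_inv_rev, swap_inv, swap_inv, ← mul_assoc, swap_mul_self, one_mul])
  have hwv : ψ w * swap p q = swap p q * ψ w := by
    rw [← hvs, ← map_mul, ← map_mul, hc w hw v hv]
  have hwr : ψ w * swap p r = swap p r * ψ w := by
    have h3 : swap p q * (ψ w * swap p r) = swap p q * (swap p r * ψ w) := by
      rw [← mul_assoc, ← hwv, mul_assoc, hwx, mul_assoc]
    exact mul_left_cancel h3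
  have hfp : ψ w p = p := by
    rcases comm_swap hwv hpq with h3 | h3
    · exact h3.1
    · rcases comm_swap hwr hpr with h4 | h4
      · exact h4.1
      · exact absurd (h3.1.symm.trans h4.1) hqr
  have hfq : ψ w q = q := by
    rcases comm_swap hwv hpq with h3 | h3
    · exact h3.2
    · exact absurd (h3.1.symm.trans hfp) (Ne.symm hpq)
  have hfr : ψ w r = r := by
    rcases comm_swap hwr hpr with h3 | h3
    · exact h3.2
    · exact absurd (h3.1.symm.trans hfp) (Ne.symm hpr)
  have hww : ψ w * ψ w = 1 := by rw [← map_mul, h2 w hw, map_one]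
  -- a fourth fixed point
  obtain ⟨a3, ha3, ha3'⟩ : ∃ a, a ∉ ({p, q, r} : Finset (Fin n)) ∧ ψ w a = a := by
    by_contra h
    push Not at h
    have h3 : (ψ w).support = Finset.univ \ {p, q, r} := by
      ext y
      rw [mem_support, Finset.mem_sdiff]
      constructor
      · intro h4
        refine ⟨Finset.mem_univ _, fun h5 => h4 ?_⟩
        rw [Finset.mem_insert, Finset.mem_insert, Finset.mem_singleton] at h5
        rcases h5 with rfl | rfl | rfl
        · exact hfp
        · exact hfq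
        · exact hfr
      · rintro ⟨-, h4⟩
        exact h y h4
    have h4 : (ψ w).support.card = n - 3 := by
      rw [h3, Finset.card_sdiff_of_subset (Finset.subset_univ _), Finset.card_univ, Fintype.card_fin,
        Finset.card_eq_three.2 ⟨p, q, r, hpq, hpr, hqr, rfl⟩]
    have h5 := cycleType_invol (ψ w) hww
    have h6 := Equiv.Perm.sum_cycleType (ψ w)
    rw [h5, Multiset.sum_replicate, smul_eq_mul] at h6
    obtain ⟨k, hk⟩ := hne
    omega
  obtain ⟨a1, ha1⟩ : ∃ a, ψ w a ≠ a := by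
    by_contra h
    push Not at h
    exact hw1 (hψ (by rw [map_one]; ext y; rw [h y, Perm.one_apply]))
  have hww' : ∀ y, ψ w (ψ w y) = y := fun y => by rw [← Perm.mul_apply, hww, Perm.one_apply]
  obtain ⟨a2, ha2⟩ : ∃ a2, ψ w a1 = a2 := ⟨_, rfl⟩
  have ha21 : ψ w a2 = a1 := by rw [← ha2, hww']
  have h12 : a1 ≠ a2 := fun h => ha1 (by rw [ha2, h])
  have h13 : a1 ≠ a3 := fun h => ha1 (by rw [h]; exact ha3')
  have h23 : a2 ≠ a3 := fun h => by
    rw [h] at ha21
    exact h13 (ha21.symm.trans ha3')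
  have hout1 : ∀ y, ψ w y = y → a1 ≠ y ∧ a2 ≠ y := fun y hy =>
    ⟨fun h => ha1 (by rw [h]; exact hy), fun h => by
      rw [h] at ha21
      exact ha1 (by rw [ha2, h, ← ha21, hy])⟩
  rw [Finset.mem_insert, Finset.mem_insert, Finset.mem_singleton, not_or, not_or] at ha3
  have hd : ∀ {a b c d : Fin n}, a ≠ c → a ≠ d → b ≠ c → b ≠ d → swap a b * swap c d = swap c d * swap a b := by
    intro a b c d h3 h4 h5 h6
    have h7 : swap (swap a b c) (swap a b d) = swap a b * swap c d * (swap a b)⁻¹ := swap_apply_apply _ _ _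
    rw [swap_apply_of_ne_of_ne h3.symm h5.symm, swap_apply_of_ne_of_ne h4.symm h6.symm] at h7
    exact (eq_mul_inv_iff_mul_eq.1 h7).symm
  have e1 := hout1 p hfp
  have e2 := hout1 q hfq
  have e3 := hout1 r hfr
  have c1 := hd e1.1 e2.1 e1.2 e2.2
  have c2 := hd e1.1 e3.1 e1.2 e3.2
  have c3 := hd e1.1 e2.1 (b := a3) ha3.1 ha3.2.1
  have c4 := hd e1.1 e3.1 (b := a3) ha3.1 ha3.2.2
  refine (cyc3 h12 h13 h23).2 (hwy _ (cyc3_odd h12 h13 h23) ?_ ?_ ?_)
  · rw [hvs, mul_assoc, c3, ← mul_assoc, c1, mul_assoc]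
  · calc swap a1 a2 * swap a1 a3 * (swap p q * swap p r)
        = swap a1 a2 * (swap a1 a3 * swap p q) * swap p r := by simp only [mul_assoc]
      _ = (swap a1 a2 * swap p q) * (swap a1 a3 * swap p r) := by rw [c3]; simp only [mul_assoc]
      _ = swap p q * (swap a1 a2 * swap p r) * swap a1 a3 := by rw [c1, c4]; simp only [mul_assoc]
      _ = swap p q * swap p r * (swap a1 a2 * swap a1 a3) := by rw [c2]; simp only [mul_assoc]
  · have h3 : swap (ψ w a1) (ψ w a2) = ψ w * swap a1 a2 * (ψ w)⁻¹ := swap_apply_apply _ _ _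
    have h4 : swap (ψ w a1) (ψ w a3) = ψ w * swap a1 a3 * (ψ w)⁻¹ := swap_apply_apply _ _ _
    have h5 : ψ w * (swap a1 a2 * swap a1 a3) * (ψ w)⁻¹ = (ψ w * swap a1 a2 * (ψ w)⁻¹) * (ψ w * swap a1 a3 * (ψ w)⁻¹) := by
      simp only [mul_assoc, inv_mul_cancel_left]
    rw [h5, ← h3, ← h4, ha2, ha21, ha3', mul_inv_rev, swap_inv, swap_inv, swap_comm a2 a1]
    have h6 : swap (swap a1 a2 a1) (swap a1 a2 a3) = swap a1 a2 * swap a1 a3 * (swap a1 a2)⁻¹ := swap_apply_apply _ _ _
    rw [swap_apply_left, swap_apply_of_ne_of_ne h13.symm h23.symm, swap_inv] at h6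
    rw [h6, ← mul_assoc, ← mul_assoc, swap_mul_self, one_mul]

/-- flipping and rotating -/
def fl (m : ℕ) : Perm (Bool × ZMod m) where
  toFun a := (!a.1, a.2)
  invFun a := (!a.1, a.2)
  left_inv a := by simp
  right_inv a := by simp

/-- rotating, with speed `e` on the second circle -/
def rt (m : ℕ) (e c : ZMod m) : Perm (Bool × ZMod m) where
  toFun a := (a.1, a.2 + (bif a.1 then e * c else c))
  invFun a := (a.1, a.2 - (bif a.1 then e * c else c))
  left_inv a := by simp
  right_inv a := by simp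

theorem rt_apply {m : ℕ} (e c : ZMod m) (b : Bool) (a : ZMod m) :
    rt m e c (b, a) = (b, a + (bif b then e * c else c)) := rfl

theorem rt_pow {m : ℕ} (e c : ZMod m) (k : ℕ) : rt m e c ^ k = rt m e (k * c) := by
  induction k with
  | zero => ext ⟨b, a⟩ <;> cases b <;> simp [rt_apply]
  | succ k ih =>
    rw [pow_succ, ih]
    ext ⟨b, a⟩ <;> cases b <;> simp only [rt_apply, _root_.Equiv.Perm.coe_mul, _root_.Function.comp_apply, _root_.cond_false, _root_.Nat.cast_add, _root_.Nat.cast_one, _root_.cond_true] <;> ring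

theorem rt_pow_self {m : ℕ} (e c : ZMod m) : rt m e c ^ m = 1 := by
  rw [rt_pow]
  ext ⟨b, a⟩ <;> cases b <;> simp [rt_apply]

include hψ hA hc h2 hT in
/-- the model: some `1 ≠ w ∈ V` is trivial on the part `Bool × ZMod m` -/
theorem two_circles {m : ℕ} (hm : Odd m) (hm1 : 1 < m) {B : Type} [Fintype B] [DecidableEq B] {β : Perm B}
    {v : G} (hv : v ∈ V) (hv1 : v ≠ 1) (ι : ((Bool × ZMod m) ⊕ B) ↪ Fin n)
    (hι : ψ v = viaEmbeddingHom ι (Equiv.Perm.sumCongr (fl m) β)) :
    ∃ w ∈ V, w ≠ 1 ∧ ∀ p, ψ w (ι (Sum.inl p)) = ι (Sum.inl p) := by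
  have : NeZero m := ⟨by omega⟩
  have : Fact (1 < m) := ⟨hm1⟩
  set t : Perm ((Bool × ZMod m) ⊕ B) := Equiv.Perm.sumCongr (rt m (-1) 1) 1 with ht
  set r : Perm ((Bool × ZMod m) ⊕ B) := Equiv.Perm.sumCongr (rt m 1 1) 1 with hr
  have htm : t ^ m = 1 := by
    have h3 : t = sumCongrHom _ _ (rt m (-1) 1, 1) := rfl
    rw [h3, ← map_pow, Prod.pow_mk, rt_pow_self, one_pow]; exact map_one _
  have hrm : r ^ m = 1 := by
    have h3 : r = sumCongrHom _ _ (rt m 1 1, 1) := rfl
    rw [h3, ← map_pow, Prod.pow_mk, rt_pow_self, one_pow]; exact map_one _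
  have hx1 : viaEmbeddingHom ι t ≠ 1 := by
    intro h
    have h3 := via_app ι t (Sum.inl (false, 0))
    rw [h, Perm.one_apply] at h3
    have h4 := ι.injective h3
    simp [ht, rt_apply] at h4
  have hy1 : viaEmbeddingHom ι r ≠ 1 := by
    intro h
    have h3 := via_app ι r (Sum.inl (false, 0))
    rw [h, Perm.one_apply] at h3
    have h4 := ι.injective h3
    simp [hr, rt_apply] at h4
  set f : Perm ((Bool × ZMod m) ⊕ B) := Equiv.Perm.sumCongr (fl m) β with hf
  have fl' : ∀ b a, f (Sum.inl (b, a)) = Sum.inl (!b, a) := fun b a => rfl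
  have tl : ∀ b a, t (Sum.inl (b, a)) = Sum.inl (b, a + (bif b then (-1) * 1 else 1)) := fun b a => rfl
  have rl : ∀ b a, r (Sum.inl (b, a)) = Sum.inl (b, a + (bif b then 1 * 1 else 1)) := fun b a => rfl
  have tr' : ∀ y, t (Sum.inr y) = Sum.inr y := fun y => rfl
  have rr' : ∀ y, r (Sum.inr y) = Sum.inr y := fun y => rfl
  have hftf : f * t * f⁻¹ = t⁻¹ := by
    apply mul_inv_eq_iff_eq_mul.2
    apply eq_inv_mul_of_mul_eq
    apply Equiv.ext
    rintro (⟨b, a⟩ | y)
    · rw [Perm.mul_apply, Perm.mul_apply, tl, fl', tl, fl']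
      cases b <;> simp
    · rfl
  have hrf : r * f = f * r := by
    apply Equiv.ext
    rintro (⟨b, a⟩ | y)
    · rw [Perm.mul_apply, Perm.mul_apply, fl', rl, rl, fl']
      cases b <;> simp
    · rfl
  have hrt : r * t = t * r := by
    apply Equiv.ext
    rintro (⟨b, a⟩ | y)
    · rw [Perm.mul_apply, Perm.mul_apply, tl, rl, rl, tl]
      cases b <;> simp
    · rfl
  obtain ⟨w, hw, hw1, hwx, hwy⟩ := tool hψ hA hT hv hv1 hx1 (via_odd ι hm htm) (by
    rw [hι, ← map_inv, ← map_mul, ← map_mul, ← map_inv, hftf])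
  refine ⟨w, hw, hw1, ?_⟩
  have hww : ψ w * ψ w = 1 := by rw [← map_mul, h2 w hw, map_one]
  have hww' : ∀ y, ψ w (ψ w y) = y := fun y => by rw [← Perm.mul_apply, hww, Perm.one_apply]
  have happ : ∀ y, ψ w (viaEmbeddingHom ι t y) = viaEmbeddingHom ι t (ψ w y) := fun y => by
    rw [← Perm.mul_apply, hwx, Perm.mul_apply]
  have hwv : ∀ y, ψ w (viaEmbeddingHom ι f y) = viaEmbeddingHom ι f (ψ w y) := fun y => by
    rw [← hι, ← Perm.mul_apply, ← map_mul, hc w hw v hv, map_mul, Perm.mul_apply]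
  -- the image of the base point
  obtain ⟨⟨e, b⟩, hb⟩ : ∃ p, ψ w (ι (Sum.inl (false, 0))) = ι (Sum.inl p) := by
    by_contra hout
    push Not at hout
    have h3 := happ (ι (Sum.inl (false, 0)))
    have h4 : viaEmbeddingHom ι t (ψ w (ι (Sum.inl (false, 0)))) = ψ w (ι (Sum.inl (false, 0))) := by
      by_cases hy : ψ w (ι (Sum.inl (false, 0))) ∈ Set.range ι
      · obtain ⟨p | y, hp⟩ := hy
        · exact absurd hp.symm (hout p)
        · rw [← hp, via_app, tr']
      · exact via_out ι t hy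
    rw [h4, via_app, tl] at h3
    have h5 := ι.injective ((ψ w).injective h3)
    simp at h5
  have hk : ∀ k : ℕ, ψ w (ι (Sum.inl (false, (k : ZMod m)))) = ι (Sum.inl (e, b + (bif e then -(k : ZMod m) else k))) := by
    intro k
    induction k with
    | zero => rw [Nat.cast_zero, hb]; cases e <;> simp
    | succ k ih =>
      have h3 := happ (ι (Sum.inl (false, (k : ZMod m))))
      rw [ih, via_app, via_app, tl, tl] at h3
      push_cast
      simp only [cond_false] at h3
      rw [h3]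
      cases e
      · simp [add_assoc]
      · simp only [cond_true]; congr 3; ring
  have hk' : ∀ a : ZMod m, ψ w (ι (Sum.inl (false, a))) = ι (Sum.inl (e, b + (bif e then -a else a))) := by
    intro a
    rw [← ZMod.natCast_zmod_val a, hk]
  have hk2 : ∀ a : ZMod m, ψ w (ι (Sum.inl (true, a))) = ι (Sum.inl (!e, b + (bif e then -a else a))) := by
    intro a
    have h3 := hwv (ι (Sum.inl (false, a)))
    rw [via_app, fl', hk', via_app, fl'] at h3
    exact h3
  cases e
  · -- the circles are fixed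
    have hb0 : b = 0 := by
      have h3 := hww' (ι (Sum.inl (false, 0)))
      rw [hk', hk'] at h3
      have h4 := ι.injective h3
      simp only [_root_.neg_zero, _root_.Bool.cond_self, _root_.add_zero, _root_.cond_false, _root_.Sum.inl.injEq, _root_.Prod.mk.injEq, _root_.true_and] at h4
      exact dbl hm h4
    rintro ⟨b', a⟩
    cases b'
    · rw [hk', hb0]; simp
    · rw [hk2, hb0]; simp
  · -- the circles are interchanged
    exfalso
    have hin : ∀ y, (∃ p, ψ w y = ι (Sum.inl p)) → ∃ p, y = ι (Sum.inl p) := by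
      rintro y ⟨⟨b', a⟩, hp⟩
      have h3 := hww' y
      rw [hp] at h3
      cases b'
      · rw [hk'] at h3; exact ⟨_, h3.symm⟩
      · rw [hk2] at h3; exact ⟨_, h3.symm⟩
    have hro : ∀ y, (¬ ∃ p, y = ι (Sum.inl p)) → viaEmbeddingHom ι r y = y := by
      intro y hy
      by_cases hy' : y ∈ Set.range ι
      · obtain ⟨p | z, rfl⟩ := hy'
        · exact absurd ⟨p, rfl⟩ hy
        · rw [via_app, rr']
      · exact via_out ι r hy'
    refine hy1 (hwy _ (via_odd ι hm hrm) ?_ ?_ ?_)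
    · rw [hι, ← map_mul, ← map_mul, hrf]
    · rw [← map_mul, ← map_mul, hrt]
    · apply mul_inv_eq_iff_eq_mul.2
      apply eq_inv_mul_of_mul_eq
      apply Equiv.ext
      intro y
      rw [Perm.mul_apply, Perm.mul_apply]
      by_cases hy : ∃ p, y = ι (Sum.inl p)
      · obtain ⟨⟨b', a⟩, rfl⟩ := hy
        rw [via_app, rl]
        cases b'
        · rw [hk', hk', via_app, rl]
          simp only [cond_false, cond_true]
          congr 3
          ring
        · rw [hk2, hk2, via_app, rl]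
          simp only [cond_true, Bool.not_true, cond_false]
          congr 3
          ring
      · rw [hro y hy, hro _ (fun h => hy (hin y h))]

include hψ hA hc h2 hT in
/-- the fixed point free case: some `1 ≠ w ∈ V` moves only the points of the part `B` -/
theorem fpf {m : ℕ} (hm : Odd m) (hm1 : 1 < m) {B : Type} [Fintype B] [DecidableEq B] {β : Perm B} (hβ : β * β = 1)
    (hβ1 : ∀ b, β b ≠ b) {v : G} (hv : v ∈ V) (hv1 : v ≠ 1) (hfix : ∀ p, ψ v p ≠ p) (hcard : n = 2 * m + Fintype.card B) :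
    ∃ ι : ((Bool × ZMod m) ⊕ B) ≃ Fin n, ∃ w ∈ V, w ≠ 1 ∧ ∀ p, ψ w (ι (Sum.inl p)) = ι (Sum.inl p) := by
  have : NeZero m := ⟨by omega⟩
  have hc1 : Fintype.card ((Bool × ZMod m) ⊕ B) = Fintype.card (Fin n) := by
    rw [Fintype.card_sum, Fintype.card_prod, Fintype.card_bool, ZMod.card, Fintype.card_fin, hcard]
  have hff : Equiv.Perm.sumCongr (fl m) β * Equiv.Perm.sumCongr (fl m) β = 1 := by
    apply Equiv.ext
    rintro (⟨b, a⟩ | y)
    · change Sum.inl (!!b, a) = _
      rw [Bool.not_not]; rfl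
    · change Sum.inr ((β * β) y) = _
      rw [hβ]; rfl
  have hsf : (Equiv.Perm.sumCongr (fl m) β).support = Finset.univ := by
    rw [Finset.eq_univ_iff_forall]
    rintro (⟨b, a⟩ | y)
    · rw [mem_support]
      change Sum.inl (!b, a) ≠ _
      cases b <;> simp
    · rw [mem_support]
      change Sum.inr (β y) ≠ _
      intro h
      exact hβ1 y (Sum.inr.inj h)
  have hsv : (ψ v).support = Finset.univ := by
    rw [Finset.eq_univ_iff_forall]
    intro y
    rw [mem_support]; exact hfix y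
  have hs : (ψ v).support.card = (Equiv.Perm.sumCongr (fl m) β).support.card := by
    rw [hsf, hsv, Finset.card_univ, Finset.card_univ, hc1]
  have hvv : ψ v * ψ v = 1 := by rw [← map_mul, h2 v hv, map_one]
  obtain ⟨ι₀⟩ : Nonempty (((Bool × ZMod m) ⊕ B) ↪ Fin n) := by
    rw [Function.Embedding.nonempty_iff_card_le]; exact hc1.le
  obtain ⟨ι, hι⟩ := exists_model _ hff ι₀ (ψ v) hvv hs
  have hvia := eq_via hs hι
  obtain ⟨w, hw, hw1, hwp⟩ := two_circles hψ hA hc h2 hT hm hm1 hv hv1 ι hvia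
  refine ⟨Equiv.ofBijective ι ((Fintype.bijective_iff_injective_and_card ι).2 ⟨ι.injective, hc1⟩), w, hw, hw1, hwp⟩

include hψ hA hc h2 hT in
/-- no elementary abelian subgroup `V ≠ 1` of a group between `A_n` and `S_n`, `n ≥ 5`, satisfies the elementary tool -/
theorem not_elemT (hn : 5 ≤ n) (hV1 : V ≠ ⊥) : False := by
  have : Finite G := Finite.of_injective ψ hψ
  obtain ⟨v, hv, hmax⟩ := (Set.toFinite (V : Set G)).exists_maximalFor (fun u => (ψ u).support.card) (V : Set G)
    ⟨1, V.one_mem⟩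
  have hmax' : ∀ u ∈ V, (ψ u).support.card ≤ (ψ v).support.card := by
    intro u hu
    rcases le_total (ψ u).support.card (ψ v).support.card with h | h
    · exact h
    · exact hmax hu h
  have hv1 : v ≠ 1 := by
    rintro rfl
    apply hV1
    rw [eq_bot_iff]
    intro u hu
    have h3 := hmax' u hu
    rw [map_one, support_one, Finset.card_empty, Nat.le_zero, Finset.card_eq_zero, support_eq_empty_iff] at h3
    rw [Subgroup.mem_bot]
    exact hψ (by rw [h3, map_one])
  have hfix := no_fixed hψ hA h2 hT hv hv1 hmax'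
  have hsv : (ψ v).support = Finset.univ := by
    rw [Finset.eq_univ_iff_forall]
    intro y
    rw [mem_support]; exact hfix y
  have hvv : ψ v * ψ v = 1 := by rw [← map_mul, h2 v hv, map_one]
  obtain ⟨k, hk⟩ : ∃ k, n = 2 * k := by
    have h3 := cycleType_invol (ψ v) hvv
    have h4 := Equiv.Perm.sum_cycleType (ψ v)
    rw [h3, Multiset.sum_replicate, smul_eq_mul, hsv, Finset.card_univ, Fintype.card_fin] at h4
    exact ⟨n / 2, by omega⟩
  rcases Nat.even_or_odd k with hk' | hk'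
  · -- `n = 2 (k - 1) + 2`
    obtain ⟨j, hj⟩ := hk'
    obtain ⟨ι, w, hw, hw1, hwp⟩ := fpf hψ hA hc h2 hT (m := k - 1) ⟨j - 1, by omega⟩ (by omega) (B := Bool)
      (β := swap false true) (by ext b; cases b <;> rfl) (fun b => by cases b <;> decide) hv hv1 hfix
      (by rw [Fintype.card_bool]; omega)
    have hww : ψ w * ψ w = 1 := by rw [← map_mul, h2 w hw, map_one]
    have hww' : ∀ y, ψ w (ψ w y) = y := fun y => by rw [← Perm.mul_apply, hww, Perm.one_apply]
    obtain ⟨y, hy⟩ : ∃ y, ψ w y ≠ y := by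
      by_contra h
      push Not at h
      exact hw1 (hψ (by rw [map_one]; ext y; rw [h y, Perm.one_apply]))
    obtain ⟨z, rfl⟩ := ι.surjective y
    obtain p | b := z
    · exact hy (hwp p)
    have h3 : ψ w (ι (Sum.inr b)) = ι (Sum.inr (!b)) := by
      obtain ⟨z, hz⟩ := ι.surjective (ψ w (ι (Sum.inr b)))
      obtain p | b' := z
      · have h4 := hww' (ι (Sum.inr b))
        rw [← hz, hwp] at h4
        exact absurd (ι.injective h4) (by simp)
      · rw [← hz] at hy ⊢
        have h4 : b' ≠ b := fun h => hy (by rw [h])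
        have h5 : b' = !b := by cases b <;> cases b' <;> simp_all only [_root_.ne_eq, _root_.SetLike.mem_coe, _root_.Finset.card_univ, _root_.Fintype.card_fin, _root_.Prod.forall, _root_.Bool.forall_bool, _root_.and_self, _root_.not_true_eq_false, _root_.Bool.true_eq_false, _root_.not_false_eq_true, _root_.Bool.not_false, _root_.Bool.false_eq_true, _root_.Bool.not_true]
        rw [h5]
    have h4 : ψ w (ι (Sum.inr (!b))) = ι (Sum.inr b) := by rw [← h3, hww']
    have h5 : ι (Sum.inr b) ≠ ι (Sum.inr (!b)) := fun h => by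
      have := ι.injective h
      cases b <;> simp at this
    refine no_transposition hψ hA hc h2 hT (by omega) ⟨k, by omega⟩ hw h5 ?_
    apply Equiv.ext
    intro y
    obtain ⟨z, rfl⟩ := ι.surjective y
    obtain p | c := z
    · rw [hwp, swap_apply_of_ne_of_ne (fun h => by simpa using ι.injective h) (fun h => by simpa using ι.injective h)]
    · by_cases hcb : c = b
      · rw [hcb, swap_apply_left, h3]
      · have : c = !b := by cases b <;> cases c <;> simp_all only [_root_.ne_eq, _root_.SetLike.mem_coe, _root_.Finset.card_univ, _root_.Fintype.card_fin, _root_.Prod.forall, _root_.Bool.forall_bool, _root_.and_self, _root_.Bool.not_true, _root_.Bool.not_false, _root_.EmbeddingLike.apply_eq_iff_eq, _root_.Sum.inr.injEq, _root_.Bool.true_eq_false, _root_.not_false_eq_true, _root_.Bool.false_eq_true]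
        rw [this, swap_apply_right, h4]
  · -- `n = 2 k`
    obtain ⟨ι, w, hw, hw1, hwp⟩ := fpf hψ hA hc h2 hT (m := k) hk' (by omega) (B := Empty)
      (β := 1) rfl (fun b => b.elim) hv hv1 hfix (by simpa using hk)
    apply hw1 (hψ _)
    rw [map_one]
    apply Equiv.ext
    intro y
    obtain ⟨z, rfl⟩ := ι.surjective y
    obtain p | b := z
    · exact hwp p
    · exact b.elim

end main

end Cfsg.Agent.H277.SK

private theorem dce_367ad3827e90 : _root_.True := by
  try have : _root_.True := by simp only [_root_.Cfsg.Agent.H277.SK.ng.eq_1]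
  exact _root_.True.intro
end

-- part: H277/SK/AltSix
section
prune_inst 0x20010200000000000022000040000000000000000040000000004000010000000000200200810008202002804000000109001000002000820040000000040260c20200100021000040e800000000000000000000000000000000000000000000000
set_option linter.all false
open scoped Cfsg.Agent.FastGrp

/-!
# Sidki pairs in almost simple groups with socle `A_6` (helper277)

`dead_alt6` : the row `K ≅ A_6` of S3010.
-/

set_option autoImplicit false

universe u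

namespace Cfsg.Agent.H277.SK

open Equiv Equiv.Perm

/-! ### two computations in `S_6` -/

/-- an involution commuting with a 3-cycle fixes its points -/
theorem fix3 {n : ℕ} {τ x : Perm (Fin n)} (h2 : τ * τ = 1) (hx : τ * x = x * τ) {p q r : Fin n} (hpq : x p = q)
    (hqr : x q = r) (hrp : x r = p) (hne : p ≠ q) (hne' : q ≠ r) (hne'' : p ≠ r)
    (hsup : ∀ a, x a ≠ a → a = p ∨ a = q ∨ a = r) : τ p = p := by
  have h2' : ∀ i, τ (τ i) = i := fun i => by rw [← Perm.mul_apply, h2, Perm.one_apply]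
  have hx' : ∀ i, τ (x i) = x (τ i) := fun i => by rw [← Perm.mul_apply, hx, Perm.mul_apply]
  rcases hsup (τ p) (fun h => by
    rw [← hx', hpq] at h
    exact hne (τ.injective h).symm) with h | h | h
  · exact h
  · -- `τ p = q`
    have h3 := hx' p
    rw [h, hqr, hpq, ← h, h2'] at h3
    exact absurd h3 hne''
  · -- `τ p = r`
    have h3 := hx' p
    rw [h, hrp, hpq] at h3
    have h4 : τ r = p := by rw [← h, h2']
    exact absurd (τ.injective (h3.trans h4.symm)) hne'

theorem six_a {τ : Perm (Fin 6)} (h2 : τ * τ = 1) (hx : τ * (swap (0 : Fin 6) 1 * swap (0 : Fin 6) 4) = (swap (0 : Fin 6) 1 * swap (0 : Fin 6) 4) * τ)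
    (hf : τ * (swap (0 : Fin 6) 1 * swap (2 : Fin 6) 3) = (swap (0 : Fin 6) 1 * swap (2 : Fin 6) 3) * τ) (h1 : τ ≠ 1) : τ = swap (2 : Fin 6) 3 := by
  have hf' : ∀ i, τ ((swap (0 : Fin 6) 1 * swap (2 : Fin 6) 3 : Perm (Fin 6)) i) = (swap (0 : Fin 6) 1 * swap (2 : Fin 6) 3 : Perm (Fin 6)) (τ i) := fun i => by
    rw [← Perm.mul_apply, hf, Perm.mul_apply]
  have t0 : τ 0 = 0 := fix3 h2 hx (p := 0) (q := 4) (r := 1) (by decide) (by decide) (by decide) (by decide) (by decide)
    (by decide) (by decide)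
  have t4 : τ 4 = 4 := fix3 h2 hx (p := 4) (q := 1) (r := 0) (by decide) (by decide) (by decide) (by decide) (by decide)
    (by decide) (by decide)
  have t1 : τ 1 = 1 := fix3 h2 hx (p := 1) (q := 0) (r := 4) (by decide) (by decide) (by decide) (by decide) (by decide)
    (by decide) (by decide)
  have a3 := hf' 2
  rw [show (swap (0 : Fin 6) 1 * swap (2 : Fin 6) 3 : Perm (Fin 6)) 2 = 3 from by decide] at a3
  have k : ∀ a : Fin 6, a ≠ 0 → a ≠ 1 → a ≠ 4 → (swap (0 : Fin 6) 1 * swap (2 : Fin 6) 3 : Perm (Fin 6)) a ≠ a → a = 2 ∨ a = 3 := by decide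
  have t5 : ∀ a : Fin 6, a ≠ 0 → a ≠ 1 → a ≠ 4 → a ≠ 2 → a ≠ 3 → a = 5 := by decide
  rcases k (τ 2) (fun h => absurd (τ.injective (h.trans t0.symm)) (by decide))
    (fun h => absurd (τ.injective (h.trans t1.symm)) (by decide))
    (fun h => absurd (τ.injective (h.trans t4.symm)) (by decide))
    (fun h => absurd (τ.injective (a3.trans h)) (by decide)) with h | h
  · rw [h, show (swap (0 : Fin 6) 1 * swap (2 : Fin 6) 3 : Perm (Fin 6)) 2 = 3 from by decide] at a3
    have t5' := t5 (τ 5) (fun h => absurd (τ.injective (h.trans t0.symm)) (by decide))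
      (fun h => absurd (τ.injective (h.trans t1.symm)) (by decide))
      (fun h => absurd (τ.injective (h.trans t4.symm)) (by decide))
      (fun h' => absurd (τ.injective (h'.trans h.symm)) (by decide))
      (fun h' => absurd (τ.injective (h'.trans a3.symm)) (by decide))
    exact absurd (by ext i; fin_cases i <;> simp_all only [_root_.Fin.isValue, _root_.ne_eq, _root_.one_ne_zero, _root_.not_false_eq_true, _root_.Fin.reduceEq, _root_.Equiv.Perm.coe_mul, _root_.Function.comp_apply, _root_.Fin.zero_eta, _root_.Fin.coe_ofNat_eq_mod, _root_.Nat.zero_mod, _root_.Equiv.Perm.coe_one, _root_.id_eq, _root_.Fin.mk_one, _root_.Nat.one_mod, _root_.Fin.reduceFinMk, _root_.Nat.reduceMod, _root_.Nat.mod_succ]) h1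
  · rw [h, show (swap (0 : Fin 6) 1 * swap (2 : Fin 6) 3 : Perm (Fin 6)) 3 = 2 from by decide] at a3
    have t5' := t5 (τ 5) (fun h => absurd (τ.injective (h.trans t0.symm)) (by decide))
      (fun h => absurd (τ.injective (h.trans t1.symm)) (by decide))
      (fun h => absurd (τ.injective (h.trans t4.symm)) (by decide))
      (fun h' => absurd (τ.injective (h'.trans a3.symm)) (by decide))
      (fun h' => absurd (τ.injective (h'.trans h.symm)) (by decide))
    apply Equiv.ext
    intro i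
    fin_cases i
    · exact t0
    · exact t1
    · exact h
    · exact a3
    · exact t4
    · exact t5'

theorem six_b {τ : Perm (Fin 6)}
    (hx : τ * (swap (0 : Fin 6) 1 * swap (0 : Fin 6) 4 * (swap (2 : Fin 6) 3 * swap (2 : Fin 6) 5)) = (swap (0 : Fin 6) 1 * swap (0 : Fin 6) 4 * (swap (2 : Fin 6) 3 * swap (2 : Fin 6) 5)) * τ)
    (hf : τ * (swap (0 : Fin 6) 1 * swap (2 : Fin 6) 3) = (swap (0 : Fin 6) 1 * swap (2 : Fin 6) 3) * τ) (hs : τ * swap (2 : Fin 6) 3 = swap (2 : Fin 6) 3 * τ) : τ = 1 := by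
  have hx' : ∀ i, τ ((swap (0 : Fin 6) 1 * swap (0 : Fin 6) 4 * (swap (2 : Fin 6) 3 * swap (2 : Fin 6) 5) : Perm (Fin 6)) i) =
      (swap (0 : Fin 6) 1 * swap (0 : Fin 6) 4 * (swap (2 : Fin 6) 3 * swap (2 : Fin 6) 5) : Perm (Fin 6)) (τ i) := fun i => by
    rw [← Perm.mul_apply, hx, Perm.mul_apply]
  have hs' : τ * swap (0 : Fin 6) 1 = swap (0 : Fin 6) 1 * τ := by
    have h3 : (τ * swap (0 : Fin 6) 1) * swap (2 : Fin 6) 3 = (swap (0 : Fin 6) 1 * τ) * swap (2 : Fin 6) 3 := by
      rw [mul_assoc, hf, mul_assoc, mul_assoc, hs]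
    exact mul_right_cancel h3
  have e2 := hx' 2
  have e0 := hx' 0
  rw [show (swap (0 : Fin 6) 1 * swap (0 : Fin 6) 4 * (swap (2 : Fin 6) 3 * swap (2 : Fin 6) 5) : Perm (Fin 6)) 2 = 5 from by decide] at e2
  rw [show (swap (0 : Fin 6) 1 * swap (0 : Fin 6) 4 * (swap (2 : Fin 6) 3 * swap (2 : Fin 6) 5) : Perm (Fin 6)) 0 = 4 from by decide] at e0
  rcases comm_swap hs (by decide) with ⟨t2, t3⟩ | ⟨t2, t3⟩
  · rcases comm_swap hs' (by decide) with ⟨t0, t1⟩ | ⟨t0, t1⟩
    · rw [t2, show (swap (0 : Fin 6) 1 * swap (0 : Fin 6) 4 * (swap (2 : Fin 6) 3 * swap (2 : Fin 6) 5) : Perm (Fin 6)) 2 = 5 from by decide] at e2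
      rw [t0, show (swap (0 : Fin 6) 1 * swap (0 : Fin 6) 4 * (swap (2 : Fin 6) 3 * swap (2 : Fin 6) 5) : Perm (Fin 6)) 0 = 4 from by decide] at e0
      apply Equiv.ext
      intro i
      fin_cases i
      · exact t0
      · exact t1
      · exact t2
      · exact t3
      · exact e0
      · exact e2
    · rw [t0, show (swap (0 : Fin 6) 1 * swap (0 : Fin 6) 4 * (swap (2 : Fin 6) 3 * swap (2 : Fin 6) 5) : Perm (Fin 6)) 1 = 0 from by decide] at e0
      exact absurd (τ.injective (e0.trans t1.symm)) (by decide)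
  · rw [t2, show (swap (0 : Fin 6) 1 * swap (0 : Fin 6) 4 * (swap (2 : Fin 6) 3 * swap (2 : Fin 6) 5) : Perm (Fin 6)) 3 = 2 from by decide] at e2
    exact absurd (τ.injective (e2.trans t3.symm)) (by decide)

/-! ### the two classes of elements of order 3 of `A_6` -/

/-- the type `3^1` -/
def T3 (x : alternatingGroup (Fin 6)) : Prop := (x : Perm (Fin 6)).IsThreeCycle

/-- the type `3^2` -/
def Q3 (x : alternatingGroup (Fin 6)) : Prop := (x : Perm (Fin 6)).cycleType = {3, 3}

theorem T3_or_Q3 {x : alternatingGroup (Fin 6)} (h : orderOf x = 3) : T3 x ∨ Q3 x := by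
  have h3 : orderOf (x : Perm (Fin 6)) = 3 := by rw [Subgroup.orderOf_coe]; exact h
  obtain ⟨n, hn⟩ := cycleType_prime_order (σ := (x : Perm (Fin 6))) (by rw [h3]; exact Nat.prime_three)
  rw [h3] at hn
  have h4 := Equiv.Perm.sum_cycleType (x : Perm (Fin 6))
  have h5 : (x : Perm (Fin 6)).support.card ≤ 6 := by
    have := Finset.card_le_univ (x : Perm (Fin 6)).support
    rwa [Fintype.card_fin] at this
  rw [hn, Multiset.sum_replicate, smul_eq_mul] at h4
  have h6 : n = 0 ∨ n = 1 := by omega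
  rcases h6 with rfl | rfl
  · exact Or.inl hn
  · exact Or.inr hn

theorem T3_not_Q3 {x : alternatingGroup (Fin 6)} (h : T3 x) (h' : Q3 x) : False := by
  unfold T3 IsThreeCycle at h
  unfold Q3 at h'
  rw [h] at h'
  have := congrArg Multiset.card h'
  simp at this

theorem T3_conj {x y : alternatingGroup (Fin 6)} (h : IsConj x y) (hx : T3 x) : T3 y := by
  obtain ⟨g, hg⟩ := isConj_iff.1 h
  unfold T3 IsThreeCycle at hx ⊢
  rw [← hg, Subgroup.coe_mul, Subgroup.coe_mul, Subgroup.coe_inv, cycleType_conj]; exact hx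

theorem Q3_conj {x y : alternatingGroup (Fin 6)} (h : IsConj x y) (hx : Q3 x) : Q3 y := by
  obtain ⟨g, hg⟩ := isConj_iff.1 h
  unfold Q3 at hx ⊢
  rw [← hg, Subgroup.coe_mul, Subgroup.coe_mul, Subgroup.coe_inv, cycleType_conj]; exact hx

theorem conj_T3 {x y : alternatingGroup (Fin 6)} (hx : T3 x) (hy : T3 y) : IsConj x y :=
  alternatingGroup.isThreeCycle_isConj (by rw [Nat.card_eq_fintype_card, Fintype.card_fin]; norm_num) hx hy

theorem type_x0 : (swap (0 : Fin 6) 1 * swap (0 : Fin 6) 4 * (swap (2 : Fin 6) 3 * swap (2 : Fin 6) 5) : Perm (Fin 6)).cycleType = {3, 3} := by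
  have h1 : (swap (0 : Fin 6) 1 * swap (0 : Fin 6) 4 : Perm (Fin 6)).IsThreeCycle := isThreeCycle_swap_mul_swap_same (by decide) (by decide) (by decide)
  have h2 : (swap (2 : Fin 6) 3 * swap (2 : Fin 6) 5 : Perm (Fin 6)).IsThreeCycle := isThreeCycle_swap_mul_swap_same (by decide) (by decide) (by decide)
  have h3 : Disjoint (swap (0 : Fin 6) 1 * swap (0 : Fin 6) 4 : Perm (Fin 6)) (swap (2 : Fin 6) 3 * swap (2 : Fin 6) 5) := by
    intro i; revert i; decide
  rw [h3.cycleType_mul, h1.cycleType, h2.cycleType]; rfl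

theorem conj_Q3 {x y : alternatingGroup (Fin 6)} (hx : Q3 x) (hy : Q3 y) : IsConj x y := by
  unfold Q3 at hx hy
  obtain ⟨c, hc⟩ := isConj_iff.1 (isConj_iff_cycleType_eq.2 (hx.trans hy.symm))
  rcases Int.units_eq_one_or (Perm.sign c) with h | h
  · exact isConj_iff.2 ⟨⟨c, Perm.mem_alternatingGroup.2 h⟩, Subtype.ext hc⟩
  · obtain ⟨d, hd⟩ := isConj_iff.1 (isConj_iff_cycleType_eq.2 (type_x0.trans hx.symm))
    set e : Perm (Fin 6) := swap (0 : Fin 6) 2 * swap (4 : Fin 6) 5 * swap (1 : Fin 6) 3 with he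
    have h3 : e * (swap (0 : Fin 6) 1 * swap (0 : Fin 6) 4 * (swap (2 : Fin 6) 3 * swap (2 : Fin 6) 5)) * e⁻¹ = swap (0 : Fin 6) 1 * swap (0 : Fin 6) 4 * (swap (2 : Fin 6) 3 * swap (2 : Fin 6) 5) := by
      rw [he]; decide
    have h4 : (d * e * d⁻¹) * x * (d * e * d⁻¹)⁻¹ = x := by
      rw [← hd]
      calc _ = d * (e * (swap (0 : Fin 6) 1 * swap (0 : Fin 6) 4 * (swap (2 : Fin 6) 3 * swap (2 : Fin 6) 5)) * e⁻¹) * d⁻¹ := by group
        _ = _ := by rw [h3]
    have h5 : sign (c * (d * e * d⁻¹)) = 1 := by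
      rw [map_mul, map_mul, map_mul, h]
      have : sign e = -1 := by rw [he]; decide
      rw [this, map_inv]
      rcases Int.units_eq_one_or (Perm.sign d) with h6 | h6 <;> rw [h6] <;> decide
    refine isConj_iff.2 ⟨⟨c * (d * e * d⁻¹), Perm.mem_alternatingGroup.2 h5⟩, Subtype.ext ?_⟩
    change c * (d * e * d⁻¹) * x * (c * (d * e * d⁻¹))⁻¹ = y
    calc c * (d * e * d⁻¹) * x * (c * (d * e * d⁻¹))⁻¹ = c * ((d * e * d⁻¹) * x * (d * e * d⁻¹)⁻¹) * c⁻¹ := by group
      _ = y := by rw [h4, hc]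

/-! ### automorphisms preserving the 3-cycles -/

/-- `α` preserves the class of 3-cycles -/
def Pr (α : MulAut (alternatingGroup (Fin 6))) : Prop := ∀ x, T3 x → T3 (α x)

theorem map_conj {α : MulAut (alternatingGroup (Fin 6))} {x y : alternatingGroup (Fin 6)} (h : IsConj x y) :
    IsConj (α x) (α y) := α.toMonoidHom.map_isConj h

theorem conj_of_map {α : MulAut (alternatingGroup (Fin 6))} {x y : alternatingGroup (Fin 6)} (h : IsConj (α x) (α y)) :
    IsConj x y := by
  have h1 := map_conj (α := α⁻¹) h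
  rwa [show α⁻¹ (α x) = x from α.symm_apply_apply x, show α⁻¹ (α y) = y from α.symm_apply_apply y] at h1

theorem ord_T3 {x : alternatingGroup (Fin 6)} (h : T3 x) : orderOf x = 3 := by
  rw [← Subgroup.orderOf_coe]; exact IsThreeCycle.orderOf h

theorem ord_Q3 {x : alternatingGroup (Fin 6)} (h : Q3 x) : orderOf x = 3 := by
  rw [← Subgroup.orderOf_coe, ← lcm_cycleType, h]; decide

theorem map_T3 {α : MulAut (alternatingGroup (Fin 6))} {x : alternatingGroup (Fin 6)} (h : T3 x) :
    T3 (α x) ∨ Q3 (α x) := T3_or_Q3 (by rw [MulEquiv.orderOf_eq]; exact ord_T3 h)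

theorem map_Q3 {α : MulAut (alternatingGroup (Fin 6))} {x : alternatingGroup (Fin 6)} (h : Q3 x) :
    T3 (α x) ∨ Q3 (α x) := T3_or_Q3 (by rw [MulEquiv.orderOf_eq]; exact ord_Q3 h)

theorem pr_of_T3 {α : MulAut (alternatingGroup (Fin 6))} {x : alternatingGroup (Fin 6)} (h : T3 x) (h' : T3 (α x)) :
    Pr α := fun _ hy => T3_conj (map_conj (conj_T3 h hy)) h'

theorem pr_of_Q3 {α : MulAut (alternatingGroup (Fin 6))} {x : alternatingGroup (Fin 6)} (h : Q3 x) (h' : Q3 (α x)) :
    Pr α := by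
  intro y hy
  rcases map_T3 (α := α) hy with h1 | h1
  · exact h1
  · exact (T3_not_Q3 hy (Q3_conj (conj_of_map (conj_Q3 h' h1)) h)).elim

theorem pr_mul {α β : MulAut (alternatingGroup (Fin 6))} (hα : ¬ Pr α) (hβ : ¬ Pr β) : Pr (α * β) := by
  intro x hx
  rw [MulAut.mul_apply]
  rcases map_T3 (α := β) hx with h1 | h1
  · exact absurd (pr_of_T3 hx h1) hβ
  · rcases map_Q3 (α := α) h1 with h2 | h2
    · exact h2
    · exact absurd (pr_of_Q3 h1 h2) hα

/-- conjugation -/
def cn : Perm (Fin 6) →* MulAut (alternatingGroup (Fin 6)) := MulAut.conjNormal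

theorem cn_apply (σ : Perm (Fin 6)) (x : alternatingGroup (Fin 6)) :
    ((cn σ x : alternatingGroup (Fin 6)) : Perm (Fin 6)) = σ * x * σ⁻¹ := MulAut.conjNormal_apply σ x

theorem cn_inj : Function.Injective cn := by
  intro s t h
  have hs : ∀ x : alternatingGroup (Fin (4 + 2)), (s * x * s⁻¹ : Perm (Fin (4 + 2))) = t * x * t⁻¹ := by
    intro x
    have := DFunLike.congr_fun h x
    have h2 := congrArg Subtype.val this
    rwa [cn_apply, cn_apply] at h2
  exact Cfsg.Agent.StandardComponent.AltAut.conj_unique (m := 4) (by omega) hs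

theorem pr_cn {α : MulAut (alternatingGroup (Fin 6))} (h : Pr α) : ∃ σ, cn σ = α := by
  obtain ⟨σ, hσ⟩ := Cfsg.Agent.S2119.exists_conj_of (m := 4) (by omega) α (fun i hi => h _ (Cfsg.Agent.StandardComponent.AltAut.isThreeCycle_cyc hi))
  exact ⟨σ, by apply MulEquiv.ext; intro x; apply Subtype.ext; rw [cn_apply, hσ]⟩

/-- inner automorphisms -/
def Ev (α : MulAut (alternatingGroup (Fin 6))) : Prop := ∃ σ, sign σ = 1 ∧ cn σ = α

/-- automorphisms induced by odd permutations -/
def Od (α : MulAut (alternatingGroup (Fin 6))) : Prop := ∃ σ, sign σ = -1 ∧ cn σ = α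

theorem ev_or_od {α : MulAut (alternatingGroup (Fin 6))} (h : Pr α) : Ev α ∨ Od α := by
  obtain ⟨σ, hσ⟩ := pr_cn h
  rcases Int.units_eq_one_or (Perm.sign σ) with h1 | h1
  · exact Or.inl ⟨σ, h1, hσ⟩
  · exact Or.inr ⟨σ, h1, hσ⟩

theorem ev_mul {α β : MulAut (alternatingGroup (Fin 6))} (hα : Ev α) (hβ : Ev β) : Ev (α * β) := by
  obtain ⟨σ, h1, rfl⟩ := hα
  obtain ⟨τ, h2, rfl⟩ := hβ
  exact ⟨σ * τ, by rw [map_mul, h1, h2]; rfl, map_mul _ _ _⟩

theorem od_mul {α β : MulAut (alternatingGroup (Fin 6))} (hα : Od α) (hβ : Od β) : Ev (α * β) := by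
  obtain ⟨σ, h1, rfl⟩ := hα
  obtain ⟨τ, h2, rfl⟩ := hβ
  exact ⟨σ * τ, by rw [map_mul, h1, h2]; rfl, map_mul _ _ _⟩

theorem pigeon {α β : Type*} [Finite α] [Finite β] (f : α → β) (h : Nat.card β < Nat.card α) :
    ∃ x y, x ≠ y ∧ f x = f y := by
  by_contra hcon
  push Not at hcon
  have h1 : Function.Injective f := fun x y hxy => by
    by_contra hne
    exact hcon x y hne hxy
  have := Nat.card_le_card_of_injective f h1
  omega

/-- a subgroup of order at least 5 of exponent 2 contains a nontrivial inner automorphism -/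
theorem exists_ev {G : Type*} [Group G] [Finite G] (ψ : G →* MulAut (alternatingGroup (Fin 6))) {V : Subgroup G}
    (hc : ∀ a ∈ V, ∀ b ∈ V, a * b = b * a) (h2 : ∀ a ∈ V, a * a = 1) (h8 : 8 ≤ Nat.card V) :
    ∃ v ∈ V, v ≠ 1 ∧ Ev (ψ v) := by
  classical
  have key : ∀ u v : V, u ≠ v → (u * v : G) ≠ 1 := by
    intro u v huv h
    apply huv
    have h3 := h2 u u.2
    exact Subtype.ext (mul_left_cancel (h3.trans h.symm))
  by_cases hall : ∀ v ∈ V, Pr (ψ v)
  · obtain ⟨u, v, huv, hf⟩ := pigeon (α := V) (β := Bool) (fun u => decide (Ev (ψ u)))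
      (by rw [Nat.card_eq_fintype_card (α := Bool), Fintype.card_bool]; omega)
    refine ⟨u * v, V.mul_mem u.2 v.2, key u v huv, ?_⟩
    rw [map_mul]
    by_cases hu : Ev (ψ u)
    · have hv : Ev (ψ v) := by simpa [hu] using hf
      exact ev_mul hu hv
    · have hv : ¬ Ev (ψ v) := by simpa [hu] using hf
      exact od_mul ((ev_or_od (hall u u.2)).resolve_left hu) ((ev_or_od (hall v v.2)).resolve_left hv)
  · push Not at hall
    obtain ⟨v0, hv0, hn0⟩ := hall
    obtain ⟨u, v, huv, hf⟩ := pigeon (α := V) (β := Bool × Bool)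
      (fun u => (decide (Pr (ψ u)), if Pr (ψ u) then decide (Ev (ψ u)) else decide (Ev (ψ (v0 * u)))))
      (by rw [Nat.card_eq_fintype_card (α := Bool × Bool), Fintype.card_prod, Fintype.card_bool]; omega)
    refine ⟨u * v, V.mul_mem u.2 v.2, key u v huv, ?_⟩
    rw [Prod.mk.injEq] at hf
    obtain ⟨hf1, hf2⟩ := hf
    by_cases hu : Pr (ψ u)
    · have hv : Pr (ψ v) := by simpa [hu] using hf1
      rw [if_pos hu, if_pos hv] at hf2
      rw [map_mul]
      by_cases hu' : Ev (ψ u)
      · have hv' : Ev (ψ v) := by simpa [hu'] using hf2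
        exact ev_mul hu' hv'
      · have hv' : ¬ Ev (ψ v) := by simpa [hu'] using hf2
        exact od_mul ((ev_or_od hu).resolve_left hu') ((ev_or_od hv).resolve_left hv')
    · have hv : ¬ Pr (ψ v) := by simpa [hu] using hf1
      rw [if_neg hu, if_neg hv] at hf2
      have h3 : ψ (u * v) = ψ (v0 * u) * ψ (v0 * v) := by
        rw [← map_mul]
        congr 1
        calc (u * v : G) = v0 * v0 * (u * v) := by rw [h2 v0 hv0, one_mul]
          _ = v0 * (v0 * u) * v := by simp only [mul_assoc]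
          _ = v0 * (u * v0) * v := by rw [hc v0 hv0 u u.2]
          _ = v0 * u * (v0 * v) := by simp only [mul_assoc]
      have pu : Pr (ψ (v0 * u)) := by rw [map_mul]; exact pr_mul hn0 hu
      have pv : Pr (ψ (v0 * v)) := by rw [map_mul]; exact pr_mul hn0 hv
      rw [h3]
      by_cases hu' : Ev (ψ (v0 * u))
      · have hv' : Ev (ψ (v0 * v)) := (decide_eq_decide.1 hf2).1 hu'
        exact ev_mul hu' hv'
      · have hv' : ¬ Ev (ψ (v0 * v)) := fun h' => hu' ((decide_eq_decide.1 hf2).2 h')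
        exact od_mul ((ev_or_od pu).resolve_left hu') ((ev_or_od pv).resolve_left hv')

/-- the contradiction -/
theorem not_sidki_six {G : Type*} [Group G] [Finite G] (ψ : G →* MulAut (alternatingGroup (Fin 6)))
    (hψ : Function.Injective ψ) (hA : ∀ σ : Perm (Fin 6), sign σ = 1 → ∃ g : G, ψ g = cn σ) {V : Subgroup G}
    (hc : ∀ a ∈ V, ∀ b ∈ V, a * b = b * a) (h2 : ∀ a ∈ V, a * a = 1) (h8 : 8 ≤ Nat.card V)
    (hS : Cfsg.IsSidkiPair V) : False := by
  obtain ⟨v, hv, hv1, σ, hσs, hσ⟩ := exists_ev ψ hc h2 h8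
  have hσ2 : σ * σ = 1 := cn_inj (by rw [map_mul, hσ, ← map_mul, h2 v hv, map_one, map_one])
  have hσ1 : σ ≠ 1 := fun h => hv1 (hψ (by rw [← hσ, h, map_one, map_one]))
  -- the tool
  have tool : ∀ x : Perm (Fin 6), sign x = 1 → Odd (orderOf x) → σ * x * σ⁻¹ = x⁻¹ →
      ∃ w ∈ V, w ≠ 1 ∧ ψ w * cn x = cn x * ψ w := by
    intro x hx hxo hinv
    obtain ⟨g, hg⟩ := hA x hx
    obtain ⟨w, hw, hw1, hwg⟩ := hS g v hv (by
      rw [← orderOf_injective ψ hψ, hg, orderOf_injective cn cn_inj]; exact hxo)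
      (hψ (by rw [map_mul, map_mul, map_inv, map_inv, ← hσ, hg, ← map_mul, ← map_inv, ← map_mul, hinv, map_inv]))
    exact ⟨w, hw, hw1, by rw [← hg, ← map_mul, ← map_mul, hwg]⟩
  -- the model
  have hcard : σ.support.card = (swap (0 : Fin 6) 1 * swap (2 : Fin 6) 3 : Perm (Fin 6)).support.card := by
    rw [show (swap (0 : Fin 6) 1 * swap (2 : Fin 6) 3 : Perm (Fin 6)).support.card = 4 from by decide]
    have h3 := cycleType_invol σ hσ2
    have h4 := Equiv.Perm.sum_cycleType σ
    have h5 := Equiv.Perm.sign_of_cycleType σ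
    rw [h3, hσs, Multiset.sum_replicate, Multiset.card_replicate, smul_eq_mul] at h5
    rw [h3, Multiset.sum_replicate, smul_eq_mul] at h4
    have h6 : σ.support.card ≤ 6 := by
      have := Finset.card_le_univ σ.support
      rwa [Fintype.card_fin] at this
    have h7 : σ.support.card ≠ 0 := by
      rw [Ne, Finset.card_eq_zero, support_eq_empty_iff]; exact hσ1
    generalize σ.support.card = k at h4 h5 h6 h7
    have h8 : k = 2 ∨ k = 4 ∨ k = 6 := by omega
    rcases h8 with rfl | rfl | rfl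
    · exact absurd h5 (by decide)
    · rfl
    · exact absurd h5 (by decide)
  obtain ⟨ι, hι⟩ := exists_model (swap (0 : Fin 6) 1 * swap (2 : Fin 6) 3 : Perm (Fin 6)) (by decide) (Function.Embedding.refl _) σ hσ2 hcard
  set c : Perm (Fin 6) := Equiv.ofBijective ι (Finite.injective_iff_bijective.1 ι.injective) with hcd
  have hσc : σ * c = c * (swap (0 : Fin 6) 1 * swap (2 : Fin 6) 3) := by
    apply Equiv.ext
    intro i
    exact hι i
  have hσc' : σ = c * (swap (0 : Fin 6) 1 * swap (2 : Fin 6) 3) * c⁻¹ := by rw [← hσc, mul_inv_cancel_right]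
  -- the tool in the model
  have conjσ : ∀ X : Perm (Fin 6), σ * (c * X * c⁻¹) * σ⁻¹ = c * ((swap (0 : Fin 6) 1 * swap (2 : Fin 6) 3) * X * (swap (0 : Fin 6) 1 * swap (2 : Fin 6) 3)⁻¹) * c⁻¹ := by
    intro X
    rw [hσc']
    group
  have tool2 : ∀ X : Perm (Fin 6), sign X = 1 → X ^ 3 = 1 →
      (swap (0 : Fin 6) 1 * swap (2 : Fin 6) 3) * X * (swap (0 : Fin 6) 1 * swap (2 : Fin 6) 3)⁻¹ = X⁻¹ →
      ∃ w ∈ V, w ≠ 1 ∧ ψ w * cn (c * X * c⁻¹) = cn (c * X * c⁻¹) * ψ w := by
    intro X hX hX3 hXi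
    refine tool (c * X * c⁻¹) ?_ ?_ ?_
    · rw [map_mul, map_mul, hX, mul_one, ← map_mul, mul_inv_cancel, map_one]
    · have h3 : (c * X * c⁻¹) ^ 3 = 1 := by rw [conj_pow, hX3, mul_one, mul_inv_cancel]
      exact Odd.of_dvd_nat (by decide) (orderOf_dvd_of_pow_eq_one h3)
    · rw [conjσ, hXi]; group
  -- permutations induced by elements of `V`
  have perm_of : ∀ w ∈ V, w ≠ 1 → ∀ x : alternatingGroup (Fin 6), (T3 x ∨ Q3 x) → ψ w * cn x = cn x * ψ w →
      ∃ τ : Perm (Fin 6), cn (c * τ * c⁻¹) = ψ w ∧ τ * τ = 1 ∧ τ ≠ 1 ∧ (c * τ * c⁻¹) * x = x * (c * τ * c⁻¹) := by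
    intro w hw hw1 x hx hwx
    have h3 : (ψ w) x = x := by
      -- `cn (ψ w x) = ψ w * cn x * (ψ w)⁻¹ = cn x`
      apply Subtype.ext
      apply cn_inj
      apply MulEquiv.ext
      intro y
      have h4 := DFunLike.congr_fun hwx ((ψ w)⁻¹ y)
      rw [MulAut.mul_apply, MulAut.mul_apply, show (ψ w) ((ψ w)⁻¹ y) = y from (ψ w).apply_symm_apply y] at h4
      rw [← h4]
      have h5 : ∀ (x y : alternatingGroup (Fin 6)), cn x y = x * y * x⁻¹ := fun x y => Subtype.ext (cn_apply _ _)
      rw [h5, h5, map_mul, map_mul, map_inv, show (ψ w) ((ψ w)⁻¹ y) = y from (ψ w).apply_symm_apply y]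
    have h4 : Pr (ψ w) := by
      rcases hx with hx | hx
      · exact pr_of_T3 hx (by rw [h3]; exact hx)
      · exact pr_of_Q3 hx (by rw [h3]; exact hx)
    obtain ⟨τ', hτ'⟩ := pr_cn h4
    have h5 : c * (c⁻¹ * τ' * c) * c⁻¹ = τ' := by group
    refine ⟨c⁻¹ * τ' * c, by rw [h5, hτ'], ?_, ?_, ?_⟩
    · have h6 : τ' * τ' = 1 := cn_inj (by rw [map_mul, hτ', ← map_mul, h2 w hw, map_one, map_one])
      calc c⁻¹ * τ' * c * (c⁻¹ * τ' * c) = c⁻¹ * (τ' * τ') * c := by group
        _ = 1 := by rw [h6]; group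
    · intro h6
      rw [h6] at h5
      apply hw1
      apply hψ
      rw [← hτ', ← h5]
      simp
    · rw [h5]
      apply cn_inj
      rw [map_mul, map_mul, hτ', hwx]
  have comm_of : ∀ u ∈ V, ∀ w ∈ V, ∀ σ' τ' : Perm (Fin 6), cn σ' = ψ u → cn τ' = ψ w → τ' * σ' = σ' * τ' := by
    intro u hu w hw σ' τ' hσ' hτ'
    apply cn_inj
    rw [map_mul, map_mul, hσ', hτ', ← map_mul, ← map_mul, hc w hw u hu]
  have back : ∀ X Y : Perm (Fin 6), (c * X * c⁻¹) * (c * Y * c⁻¹) = (c * Y * c⁻¹) * (c * X * c⁻¹) → X * Y = Y * X := by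
    intro X Y h
    have h3 : c * (X * Y) * c⁻¹ = c * (Y * X) * c⁻¹ := by
      calc c * (X * Y) * c⁻¹ = (c * X * c⁻¹) * (c * Y * c⁻¹) := by group
        _ = _ := h
        _ = _ := by group
    exact mul_left_cancel (mul_right_cancel h3)
  -- step 1
  have hX1 : sign (c * (swap (0 : Fin 6) 1 * swap (0 : Fin 6) 4) * c⁻¹) = 1 := by
    rw [map_mul, map_mul, show sign (swap (0 : Fin 6) 1 * swap (0 : Fin 6) 4 : Perm (Fin 6)) = 1 from by decide, mul_one, ← map_mul,
      mul_inv_cancel, map_one]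
  obtain ⟨w, hw, hw1, hwx⟩ := tool2 (swap (0 : Fin 6) 1 * swap (0 : Fin 6) 4) (by decide) (by decide) (by decide)
  obtain ⟨τ, hτ, hτ2, hτ1, hτx⟩ := perm_of w hw hw1 ⟨c * (swap (0 : Fin 6) 1 * swap (0 : Fin 6) 4) * c⁻¹, Perm.mem_alternatingGroup.2 hX1⟩
    (Or.inl (by
      change (c * (swap (0 : Fin 6) 1 * swap (0 : Fin 6) 4) * c⁻¹).cycleType = {3}
      rw [cycleType_conj]
      exact isThreeCycle_swap_mul_swap_same (by decide) (by decide) (by decide))) hwx
  have hτf : τ * (swap (0 : Fin 6) 1 * swap (2 : Fin 6) 3) = (swap (0 : Fin 6) 1 * swap (2 : Fin 6) 3) * τ := back _ _ (by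
    rw [← hσc']
    exact comm_of v hv w hw σ (c * τ * c⁻¹) hσ hτ)
  have hτe : τ = swap (2 : Fin 6) 3 := six_a hτ2 (back _ _ hτx) hτf hτ1
  -- step 2
  have hX2 : sign (c * (swap (0 : Fin 6) 1 * swap (0 : Fin 6) 4 * (swap (2 : Fin 6) 3 * swap (2 : Fin 6) 5)) * c⁻¹) = 1 := by
    rw [map_mul, map_mul, show sign (swap (0 : Fin 6) 1 * swap (0 : Fin 6) 4 * (swap (2 : Fin 6) 3 * swap (2 : Fin 6) 5) : Perm (Fin 6)) = 1 from by decide,
      mul_one, ← map_mul, mul_inv_cancel, map_one]
  obtain ⟨w', hw', hw1', hwx'⟩ := tool2 (swap (0 : Fin 6) 1 * swap (0 : Fin 6) 4 * (swap (2 : Fin 6) 3 * swap (2 : Fin 6) 5)) (by decide) (by decide) (by decide)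
  obtain ⟨τ', hτ', -, hτ1', hτx'⟩ := perm_of w' hw' hw1'
    ⟨c * (swap (0 : Fin 6) 1 * swap (0 : Fin 6) 4 * (swap (2 : Fin 6) 3 * swap (2 : Fin 6) 5)) * c⁻¹, Perm.mem_alternatingGroup.2 hX2⟩
    (Or.inr (by
      change (c * (swap (0 : Fin 6) 1 * swap (0 : Fin 6) 4 * (swap (2 : Fin 6) 3 * swap (2 : Fin 6) 5)) * c⁻¹).cycleType = {3, 3}
      rw [cycleType_conj]
      exact type_x0)) hwx'
  have hτf' : τ' * (swap (0 : Fin 6) 1 * swap (2 : Fin 6) 3) = (swap (0 : Fin 6) 1 * swap (2 : Fin 6) 3) * τ' := back _ _ (by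
    rw [← hσc']
    exact comm_of v hv w' hw' σ (c * τ' * c⁻¹) hσ hτ')
  have hτs' : τ' * swap (2 : Fin 6) 3 = swap (2 : Fin 6) 3 * τ' := back _ _ (by
    rw [← hτe]
    exact comm_of w hw w' hw' (c * τ * c⁻¹) (c * τ' * c⁻¹) hτ hτ')
  exact hτ1' (six_b (back _ _ hτx') hτf' hτs')

/-- **the row `A_6` of S3010** -/
theorem dead_alt6 : Cfsg.Agent.H282.SK.DeadS.{u} (fun K _ => Nonempty (K ≃* alternatingGroup (Fin 6))) := by
  rintro G _ _ V K h ⟨e⟩
  have := h.norm
  have hcn : ∀ (x y : alternatingGroup (Fin 6)), cn x y = x * y * x⁻¹ := fun x y => Subtype.ext (cn_apply _ _)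
  refine not_sidki_six ((MulAut.congr e).toMonoidHom.comp (MulAut.conjNormal : G →* MulAut K)) ?_ ?_
    (fun a ha b hb => (h.comm ha hb).eq) (fun a ha => h.sq ha) h.card h.sidki
  · rw [injective_iff_map_eq_one]
    intro g hg
    have h4 : (MulAut.conjNormal g : MulAut K) = 1 := (MulAut.congr e).injective (by rw [map_one]; exact hg)
    apply h.eq_one_of_comm
    intro k hk
    have h6 := MulAut.conjNormal_apply (H := K) g ⟨k, hk⟩
    rw [h4, MulAut.one_apply] at h6
    change k = g * k * g⁻¹ at h6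
    nth_rewrite 2 [h6]
    rw [inv_mul_cancel_right]
  · intro σ hσ
    refine ⟨e.symm ⟨σ, Perm.mem_alternatingGroup.2 hσ⟩, ?_⟩
    apply MulEquiv.ext
    intro x
    change e (MulAut.conjNormal ((e.symm ⟨σ, Perm.mem_alternatingGroup.2 hσ⟩ : K) : G) (e.symm x)) = _
    rw [MulAut.conjNormal_val, MulAut.conj_apply, map_mul, map_mul, map_inv, e.apply_symm_apply, e.apply_symm_apply]
    exact (hcn ⟨σ, Perm.mem_alternatingGroup.2 hσ⟩ x).symm

end Cfsg.Agent.H277.SK
end
end
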